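import Mathlib.RingTheory.HopfAlgebra.TensorProduct
import Mathlib.RingTheory.HopfAlgebra.Quotient
import Mathlib.RingTheory.Flat.TorsionFree
import Mathlib.RingTheory.Flat.EquationalCriterion
import Mathlib.RingTheory.Localization.FractionRing
import Mathlib.RingTheory.Finiteness.Projective
import Mathlib.RingTheory.DedekindDomain.Basic
import Mathlib.LinearAlgebra.TensorProduct.Basis

/-!
# Closed flat subgroups and subgroups of the generic fibre
-/

set_option autoImplicit false
set_option linter.style.haveILetI false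

universe u

open TensorProduct

namespace Groth.Misc1.GenFibre

lemma map_mkQ_eq_zero_iff {S B : Type u} [CommRing S] [CommRing B] [Algebra S B] (I : Ideal B) (z : B ⊗[S] B) :
    TensorProduct.map (I.restrictScalars S).mkQ (I.restrictScalars S).mkQ z = 0 ↔
      Algebra.TensorProduct.map (Ideal.Quotient.mkₐ S I) (Ideal.Quotient.mkₐ S I) z = 0 := by
  let e := (Submodule.Quotient.restrictScalarsEquiv S I)
  have h : TensorProduct.congr e e (TensorProduct.map (I.restrictScalars S).mkQ (I.restrictScalars S).mkQ z) =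
      Algebra.TensorProduct.map (Ideal.Quotient.mkₐ S I) (Ideal.Quotient.mkₐ S I) z := by
    induction z using TensorProduct.induction_on with
    | zero => simp
    | tmul x y => rfl
    | add x y hx hy => simp only [map_add, hx, hy]
  rw [← h]
  exact (LinearEquiv.map_eq_zero_iff _).symm

/-- a map of algebras on tensor squares over a larger base -/
noncomputable def sqMap {R K M V : Type u} [CommRing R] [CommRing K] [Algebra R K] [CommRing M] [Algebra R M]
    [CommRing V] [Algebra R V] [Algebra K V] [IsScalarTower R K V] (j : M →ₐ[R] V) :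
    M ⊗[R] M →ₐ[R] V ⊗[K] V :=
  Algebra.TensorProduct.lift
    (((Algebra.TensorProduct.includeLeft : V →ₐ[K] V ⊗[K] V).restrictScalars R).comp j)
    (((Algebra.TensorProduct.includeRight : V →ₐ[K] V ⊗[K] V).restrictScalars R).comp j)
    (fun _ _ => Commute.all _ _)

variable {R : Type u} [CommRing R] [IsDomain R] {K : Type u} [Field K] [Algebra R K] [IsFractionRing R K]
  {A : Type u} [CommRing A] [HopfAlgebra R A]

local notation "incl" => (Algebra.TensorProduct.includeRight : A →ₐ[R] K ⊗[R] A)

lemma exists_smul_eq (x : K ⊗[R] A) : ∃ s : R, s ≠ 0 ∧ ∃ a : A, s • x = incl a := by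
  induction x using TensorProduct.induction_on with
  | zero => exact ⟨1, one_ne_zero, 0, by simp⟩
  | tmul c a =>
    obtain ⟨r, s, hs, rfl⟩ := IsFractionRing.div_surjective R c
    refine ⟨s, nonZeroDivisors.ne_zero hs, r • a, ?_⟩
    have hs' : algebraMap R K s ≠ 0 :=
      IsFractionRing.to_map_eq_zero_iff.not.2 (nonZeroDivisors.ne_zero hs)
    rw [TensorProduct.smul_tmul', Algebra.smul_def, mul_div_cancel₀ _ hs',
      Algebra.TensorProduct.includeRight_apply, Algebra.algebraMap_eq_smul_one, TensorProduct.smul_tmul]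
  | add x y hx hy =>
    obtain ⟨s, hs, a, ha⟩ := hx
    obtain ⟨t, ht, b, hb⟩ := hy
    refine ⟨s * t, mul_ne_zero hs ht, t • a + s • b, ?_⟩
    rw [smul_add, map_add, map_smul, map_smul, ← ha, ← hb, smul_smul, smul_smul, mul_comm s t]

variable [Module.Flat R A]

omit [IsDomain R] in
lemma incl_injective : Function.Injective incl :=
  Algebra.TensorProduct.includeRight_injective (IsFractionRing.injective R K)

lemma counit_incl (a : A) :
    Coalgebra.counit (R := K) (incl a) = algebraMap R K (Coalgebra.counit (R := R) a) := by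
  rw [Algebra.TensorProduct.includeRight_apply, TensorProduct.counit_tmul, CommSemiring.counit_apply,
    Algebra.smul_def, mul_one]

lemma antipode_incl (a : A) : HopfAlgebra.antipode K (incl a) = incl (HopfAlgebra.antipode R a) := by
  simp

variable (R K A) in
/-- the comparison of tensor squares -/
noncomputable def nat : A ⊗[R] A →ₐ[R] (K ⊗[R] A) ⊗[K] (K ⊗[R] A) :=
  Algebra.TensorProduct.lift
    (((Algebra.TensorProduct.includeLeft : (K ⊗[R] A) →ₐ[K] _).restrictScalars R).comp incl)
    (((Algebra.TensorProduct.includeRight : (K ⊗[R] A) →ₐ[K] _).restrictScalars R).comp incl)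
    (fun _ _ => Commute.all _ _)

lemma comul_incl (a : A) :
    Coalgebra.comul (R := K) (incl a) = nat R K A (Coalgebra.comul (R := R) a) := by
  rw [Algebra.TensorProduct.includeRight_apply, TensorProduct.comul_tmul, CommSemiring.comul_apply]
  induction Coalgebra.comul (R := R) a using TensorProduct.induction_on with
  | zero => simp
  | tmul x y => simp [nat, Algebra.TensorProduct.one_def]
  | add x y hx hy => simp only [TensorProduct.tmul_add, map_add, hx, hy]

omit [Module.Flat R A] in
lemma exists_smul_mem_map (J' : Ideal A) {x : K ⊗[R] A} (hx : x ∈ J'.map incl) :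
    ∃ s : R, s ≠ 0 ∧ ∃ a ∈ J', s • x = incl a := by
  induction hx using Submodule.span_induction with
  | mem y hy => obtain ⟨a, ha, rfl⟩ := hy; exact ⟨1, one_ne_zero, a, ha, one_smul _ _⟩
  | zero => exact ⟨1, one_ne_zero, 0, J'.zero_mem, by simp⟩
  | add y z _ _ hy hz =>
    obtain ⟨s, hs, a, haJ, ha⟩ := hy
    obtain ⟨t, ht, b, hbJ, hb⟩ := hz
    refine ⟨s * t, mul_ne_zero hs ht, t • a + s • b,
      add_mem (Submodule.smul_of_tower_mem _ _ haJ) (Submodule.smul_of_tower_mem _ _ hbJ), ?_⟩
    rw [smul_add, map_add, map_smul, map_smul, ← ha, ← hb, smul_smul, smul_smul, mul_comm s t]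
  | smul c y _ hy =>
    obtain ⟨s, hs, a, haJ, ha⟩ := hy
    obtain ⟨t, ht, b, hb⟩ := exists_smul_eq c
    refine ⟨t * s, mul_ne_zero ht hs, b * a, J'.mul_mem_left _ haJ, ?_⟩
    rw [map_mul, ← hb, ← ha, smul_eq_mul, smul_mul_smul_comm]

omit [IsDomain R] [Module.Flat R A] in
lemma mem_of_smul_mem {J : Ideal (K ⊗[R] A)} {x : K ⊗[R] A} {s : R} (hs : algebraMap R K s ≠ 0)
    (h : s • x ∈ J) : x ∈ J := by
  rw [← algebraMap_smul K s x] at h
  have := Submodule.smul_of_tower_mem J (algebraMap R K s)⁻¹ h
  rwa [inv_smul_smul₀ hs] at this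

theorem isHopfIdeal_map (J' : Ideal A) [J'.IsHopfIdeal R] : (J'.map incl).IsHopfIdeal K := by
  have hco : ∀ x ∈ J', Algebra.TensorProduct.map (Ideal.Quotient.mkₐ K (J'.map incl))
      (Ideal.Quotient.mkₐ K (J'.map incl)) (nat R K A (Coalgebra.comul (R := R) x)) = 0 := by
    intro x hx
    let j : A ⧸ J' →ₐ[R] (K ⊗[R] A) ⧸ (J'.map incl) :=
      Ideal.Quotient.liftₐ J' ((Ideal.Quotient.mkₐ R (J'.map incl)).comp incl) fun a ha =>
        Ideal.Quotient.eq_zero_iff_mem.2 (Ideal.mem_map_of_mem _ ha)
    let j2 := sqMap (K := K) j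
    have h0 : Algebra.TensorProduct.map (Ideal.Quotient.mkₐ R J') (Ideal.Quotient.mkₐ R J')
        (Coalgebra.comul (R := R) x) = 0 :=
      (map_mkQ_eq_zero_iff J' _).1 (Submodule.IsCoideal.map_mkQ_comul_eq_zero
        (I := J'.restrictScalars R) hx)
    refine Eq.trans ?_ ((congrArg j2 h0).trans (map_zero j2))
    induction Coalgebra.comul (R := R) x using TensorProduct.induction_on with
    | zero => simp
    | tmul a b => simp [nat, sqMap, j2, j]
    | add a b ha hb => simp only [map_add, ha, hb]
  refine { counit_eq_zero := fun x hx => ?_, map_mkQ_comul_eq_zero := fun x hx => ?_,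
           antipode_mem := fun x hx => ?_ }
  · have hle : J'.map incl ≤ RingHom.ker (Bialgebra.counitAlgHom K (K ⊗[R] A)) := by
      refine Ideal.map_le_iff_le_comap.2 fun a ha => ?_
      show Coalgebra.counit (R := K) (incl a) = 0
      rw [counit_incl, Submodule.IsCoideal.counit_eq_zero (I := J'.restrictScalars R) ha, map_zero]
    exact hle hx
  · refine (map_mkQ_eq_zero_iff _ _).2 ?_
    have hle : J'.map incl ≤ RingHom.ker ((Algebra.TensorProduct.map (Ideal.Quotient.mkₐ K (J'.map incl))
        (Ideal.Quotient.mkₐ K (J'.map incl))).comp (Bialgebra.comulAlgHom K (K ⊗[R] A))) := by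
      refine Ideal.map_le_iff_le_comap.2 fun a ha => ?_
      simp only [Ideal.mem_comap, RingHom.mem_ker, AlgHom.comp_apply, Bialgebra.comulAlgHom_apply]
      rw [comul_incl]
      exact hco a ha
    exact hle hx
  · have hle : J'.map incl ≤ (J'.map incl).comap (HopfAlgebra.antipodeAlgHom K (K ⊗[R] A)) := by
      refine Ideal.map_le_iff_le_comap.2 fun a ha => ?_
      show HopfAlgebra.antipode K (incl a) ∈ J'.map incl
      rw [antipode_incl]
      exact Ideal.mem_map_of_mem _ (Ideal.IsHopfIdeal.antipode_mem ha)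
    exact hle hx

omit [Module.Flat R A] in
theorem map_comap (J : Ideal (K ⊗[R] A)) : (J.comap incl).map incl = J := by
  refine le_antisymm Ideal.map_comap_le fun x hx => ?_
  obtain ⟨s, hs, a, ha⟩ := exists_smul_eq x
  refine mem_of_smul_mem (IsFractionRing.to_map_eq_zero_iff.not.2 hs) ?_
  rw [ha]
  exact Ideal.mem_map_of_mem _ (show a ∈ J.comap incl by
    rw [Ideal.mem_comap, ← ha]; exact Submodule.smul_of_tower_mem J s hx)

theorem comap_map (J' : Ideal A) [Module.Flat R (A ⧸ J')] : (J'.map incl).comap incl = J' := by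
  refine le_antisymm (fun a ha => ?_) Ideal.le_comap_map
  obtain ⟨s, hs, b, hb, hsb⟩ := exists_smul_mem_map J' ha
  rw [← map_smul] at hsb
  have h : s • a ∈ J' := incl_injective hsb ▸ hb
  have htor := Module.Flat.torsion_eq_bot (R := R) (M := A ⧸ J')
  have : Ideal.Quotient.mk J' a ∈ Submodule.torsion R (A ⧸ J') :=
    ⟨⟨s, mem_nonZeroDivisors_of_ne_zero hs⟩, Ideal.Quotient.eq_zero_iff_mem.2 h⟩
  rw [htor, Submodule.mem_bot] at this
  exact Ideal.Quotient.eq_zero_iff_mem.1 this

theorem flat_comap [IsDedekindDomain R] (J : Ideal (K ⊗[R] A)) : Module.Flat R (A ⧸ J.comap incl) := by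
  rw [IsDedekindDomain.flat_iff_torsion_eq_bot, eq_bot_iff]
  rintro x ⟨⟨s, hs⟩, h⟩
  obtain ⟨a, rfl⟩ := Ideal.Quotient.mk_surjective x
  rw [Submodule.mem_bot, Ideal.Quotient.eq_zero_iff_mem, Ideal.mem_comap]
  refine mem_of_smul_mem (IsFractionRing.to_map_eq_zero_iff.not.2 (nonZeroDivisors.ne_zero hs)) ?_
  rw [← map_smul]
  exact Ideal.mem_comap.1 (Ideal.Quotient.eq_zero_iff_mem.1 (h : Ideal.Quotient.mk _ (s • a) = 0))

theorem isHopfIdeal_comap [IsDedekindDomain R] [Module.Finite R A] (J : Ideal (K ⊗[R] A)) [J.IsHopfIdeal K] :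
    (J.comap incl).IsHopfIdeal R := by
  haveI := flat_comap (R := R) J
  refine { counit_eq_zero := fun x hx => ?_, map_mkQ_comul_eq_zero := fun x hx => ?_,
           antipode_mem := fun x hx => ?_ }
  · have h := Submodule.IsCoideal.counit_eq_zero (I := J.restrictScalars K) (show incl x ∈ J from hx)
    rw [counit_incl] at h
    exact IsFractionRing.to_map_eq_zero_iff.1 h
  · refine (map_mkQ_eq_zero_iff _ _).2 ?_
    have h : Algebra.TensorProduct.map (Ideal.Quotient.mkₐ K J) (Ideal.Quotient.mkₐ K J)
        (nat R K A (Coalgebra.comul (R := R) x)) = 0 := by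
      rw [← comul_incl]
      exact (map_mkQ_eq_zero_iff J _).1
        (Submodule.IsCoideal.map_mkQ_comul_eq_zero (I := J.restrictScalars K) (show incl x ∈ J from hx))
    set M := A ⧸ J.comap incl
    set q := Ideal.Quotient.mkₐ R (J.comap incl)
    haveI : Module.Finite R M := Module.Finite.of_surjective q.toLinearMap Ideal.Quotient.mk_surjective
    haveI : Module.FinitePresentation R M := Module.finitePresentation_of_finite R M
    haveI : Module.Projective R M := Module.Flat.projective_of_finitePresentation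
    obtain ⟨n, f, g, -, -, hfg⟩ := Module.Finite.exists_comp_eq_id_of_projective R M
    -- coordinate forms extend to the generic fibre
    have hext : ∀ l : M →ₗ[R] R, ∃ l' : ((K ⊗[R] A) ⧸ J) →ₗ[K] K,
        ∀ a : A, l' (Ideal.Quotient.mk J (incl a)) = algebraMap R K (l (q a)) := by
      intro l
      let L : K ⊗[R] A →ₗ[K] K :=
        LinearMap.liftBaseChange K ((Algebra.linearMap R K).comp (l.comp q.toLinearMap))
      have hL : ∀ a, L (incl a) = algebraMap R K (l (q a)) := fun a => by simp [L]
      refine ⟨(J.restrictScalars K).liftQ L (fun y hy => ?_) ∘ₗ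
        (Submodule.Quotient.restrictScalarsEquiv K J).symm.toLinearMap, fun a => hL a⟩
      obtain ⟨s, hs, b, hb⟩ := exists_smul_eq y
      have hbJ : b ∈ J.comap incl := by
        rw [Ideal.mem_comap, ← hb]; exact Submodule.smul_of_tower_mem J s hy
      have h1 : L (s • y) = 0 := by
        rw [hb, hL, show q b = 0 from Ideal.Quotient.eq_zero_iff_mem.2 hbJ, map_zero, map_zero]
      rw [LinearMap.map_smul_of_tower, Algebra.smul_def] at h1
      exact LinearMap.mem_ker.2
        ((mul_eq_zero.1 h1).resolve_left (IsFractionRing.to_map_eq_zero_iff.not.2 hs))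
    set z := Algebra.TensorProduct.map q q (Coalgebra.comul (R := R) x) with hz
    suffices hgz : TensorProduct.map g g z = 0 by
      have := congrArg (TensorProduct.map f f) hgz
      rwa [TensorProduct.map_map, hfg, TensorProduct.map_id, LinearMap.id_apply, map_zero] at this
    let b := (Pi.basisFun R (Fin n)).tensorProduct (Pi.basisFun R (Fin n))
    refine b.ext_elem fun ⟨i, j⟩ => ?_
    obtain ⟨li, hli⟩ := hext ((LinearMap.proj i).comp g)
    obtain ⟨lj, hlj⟩ := hext ((LinearMap.proj j).comp g)
    rw [map_zero, Finsupp.zero_apply]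
    apply IsFractionRing.injective R K
    rw [map_zero]
    refine Eq.trans ?_ ((congrArg (LinearMap.mul' K K ∘ₗ TensorProduct.map li lj) h).trans (map_zero _))
    rw [hz]
    induction Coalgebra.comul (R := R) x using TensorProduct.induction_on with
    | zero => simp
    | tmul a c =>
      have e1 := hli a
      have e2 := hlj c
      simp only [LinearMap.comp_apply, LinearMap.proj_apply, Algebra.TensorProduct.includeRight_apply] at e1 e2
      simp [nat, b, e1, e2, mul_comm]
    | add a c ha hc => simp only [map_add, Finsupp.add_apply, ha, hc]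
  · rw [Ideal.mem_comap, ← antipode_incl]
    exact Ideal.IsHopfIdeal.antipode_mem (show incl x ∈ J from hx)

theorem bijOn [IsDedekindDomain R] [Module.Finite R A] :
    Set.BijOn (fun J' : Ideal A => J'.map incl)
      {J' : Ideal A | J'.IsHopfIdeal R ∧ Module.Flat R (A ⧸ J')}
      {J : Ideal (K ⊗[R] A) | J.IsHopfIdeal K} := by
  refine ⟨fun J' ⟨h, _⟩ => ?_, fun J₁ ⟨_, h₁⟩ J₂ ⟨_, h₂⟩ h => ?_, fun J hJ => ?_⟩
  · haveI := h; exact isHopfIdeal_map J'
  · haveI := h₁; haveI := h₂
    rw [← comap_map (R := R) (K := K) J₁, ← comap_map (R := R) (K := K) J₂]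
    exact congrArg (Ideal.comap incl) h
  · haveI : J.IsHopfIdeal K := hJ
    exact ⟨J.comap incl, ⟨isHopfIdeal_comap J, flat_comap J⟩, map_comap J⟩

end Groth.Misc1.GenFibre
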